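import Cfsg.Agent.Comp.PermChar
import Cfsg.Agent.Spec.SU34

set_option autoImplicit false
set_option maxRecDepth 100000
set_option Elab.async false

namespace Cfsg.Agent.Comp.U33

open Cfsg.Agent.Spec

noncomputable def S : VL := ⟨nat_lit 3, nat_lit 4, nat_lit 15⟩
noncomputable def vs : ℕ := nat_lit 0x880870866863862861850840836833832831826823822821816813812811808807805804780770766763762761750740736733732731726723722721716713712711708707705704686683682681676673672671668667665664656653652651646643642641638637635634628627625624618617615614600580570566563562561550540536533532531526523522521516513512511508507505504480470466463462461450440436433432431426423422421416413412411408407405404386383382381376373372371368367365364356353352351346343342341338337335334328327325324318317315314300286283282281276273272271268267265264256253252251246243242241238237235234228227225224218217215214200186183182181176173172171168167165164156153152151146143142141138137135134128127125124118117115114100088087085084078077075074060058057055054048047045044030020010006003002001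
noncomputable def P : VT := ⟨nat_lit 252, vs, nat_lit 12, nat_lit 4095⟩
noncomputable def As : List ℕ := [nat_lit 0x704010504, nat_lit 0x327271526]
noncomputable def Bs : List ℕ := [nat_lit 0x408010707, nat_lit 0x628242413]
noncomputable def Ts : List ℕ := [nat_lit 0x705010404, nat_lit 0x325272716]
noncomputable def Cs : List ℕ := [nat_lit 0x407010807, nat_lit 0x624241823]
noncomputable def Q : ℕ := nat_lit 0x100010001
noncomputable def bl : List ℕ := [nat_lit 0, nat_lit 4, nat_lit 24]
theorem hl : layChk S P = true := by decide +kernel
theorem hp0 : allR (ptChk nOps.q S P) 0 252 = true := by decide +kernel
theorem hp : ∀ i, i < P.n → ptChk nOps.q S P i = true := range_step (lo := 0) 252 range_start hp0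
theorem hinv : all1 (fun j => mmOne nOps S (nth As j) (nth Bs j)) (nat_lit 0) 2 = true := by decide +kernel
theorem huni : all1 (fun j => trChk S (nth As j) (nth Ts j) &: pwChk nOps S 3 (nth As j) (nth Cs j) &: mmOne nOps S (nth Ts j) (nth Cs j)) (nat_lit 0) 2 = true := by decide +kernel

end Cfsg.Agent.Comp.U33
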